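import Groth.Agent.L20.ModStalk
import Groth.Agent.L21.Mod.Stalks
import Groth.Agent.L16.QcqsPush
import Groth.Prelude.Def_FDesc
import Mathlib.RingTheory.Ideal.AssociatedPrime.Localization
import Mathlib.AlgebraicGeometry.Noetherian
import Mathlib.Algebra.Homology.ShortComplex.Ab

/-!
# Associated points of quasi-coherent modules
-/

set_option autoImplicit false
set_option linter.style.haveILetI false
set_option backward.isDefEq.respectTransparency.types false
set_option backward.isDefEq.respectTransparency false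

universe u

open CategoryTheory CategoryTheory.Limits AlgebraicGeometry TopologicalSpace Opposite IsLocalRing

noncomputable section

namespace Groth.L19.Ass

open Groth.L18.Frame (rs)

variable {X Y : Scheme.{u}}

theorem mem_iff (M : X.Modules) (x : X) :
    x ∈ AssSch.Ass M ↔
      maximalIdeal (X.presheaf.stalk x) ∈ associatedPrimes (X.presheaf.stalk x) (M.presheaf.stalk x) :=
  Iff.rfl

/-- An associated prime of the sections on an affine open gives an associated point. -/
theorem mem_of_mem_associatedPrimes (M : X.Modules) [Coh.IsQCoh M] {V : X.Opens} (hV : IsAffineOpen V)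
    {x : X} (hx : x ∈ V)
    (h : (hV.primeIdealOf ⟨x, hx⟩).asIdeal ∈ associatedPrimes Γ(X, V) Γ(M, V)) :
    x ∈ AssSch.Ass M := by
  letI := Groth.L20.ModStalk.stalkModule M hx
  letI := X.presheaf.algebra_section_stalk ⟨x, hx⟩
  have := hV.isLocalization_stalk ⟨x, hx⟩
  have := Groth.L20.ModStalk.isLocalizedModule_germ M hV hx
  have : IsScalarTower Γ(X, V) (X.presheaf.stalk x) (M.presheaf.stalk x) :=
    IsScalarTower.of_algebraMap_smul fun _ _ => rfl
  refine (mem_iff M x).mpr ?_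
  apply Module.associatedPrimes.mem_associatedPrimes_of_comap_mem_associatedPrimes_of_isLocalizedModule
    (hV.primeIdealOf ⟨x, hx⟩).asIdeal.primeCompl (Groth.L20.ModStalk.germₗ M hx)
  rw [show (maximalIdeal (X.presheaf.stalk x)).comap (algebraMap Γ(X, V) (X.presheaf.stalk x)) =
    (hV.primeIdealOf ⟨x, hx⟩).asIdeal from
    IsLocalization.AtPrime.under_maximalIdeal (X.presheaf.stalk x) (hV.primeIdealOf ⟨x, hx⟩).asIdeal]
  exact h

/-- An associated point with finitely generated prime gives an associated prime of the sections. -/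
theorem mem_associatedPrimes_of_fg (M : X.Modules) [Coh.IsQCoh M] {V : X.Opens} (hV : IsAffineOpen V)
    {x : X} (hx : x ∈ V) (hfg : (hV.primeIdealOf ⟨x, hx⟩).asIdeal.FG) (h : x ∈ AssSch.Ass M) :
    (hV.primeIdealOf ⟨x, hx⟩).asIdeal ∈ associatedPrimes Γ(X, V) Γ(M, V) := by
  letI := Groth.L20.ModStalk.stalkModule M hx
  letI := X.presheaf.algebra_section_stalk ⟨x, hx⟩
  have := hV.isLocalization_stalk ⟨x, hx⟩
  have := Groth.L20.ModStalk.isLocalizedModule_germ M hV hx
  have : IsScalarTower Γ(X, V) (X.presheaf.stalk x) (M.presheaf.stalk x) :=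
    IsScalarTower.of_algebraMap_smul fun _ _ => rfl
  have he : (maximalIdeal (X.presheaf.stalk x)).comap (algebraMap Γ(X, V) (X.presheaf.stalk x)) =
      (hV.primeIdealOf ⟨x, hx⟩).asIdeal :=
    IsLocalization.AtPrime.under_maximalIdeal (X.presheaf.stalk x) (hV.primeIdealOf ⟨x, hx⟩).asIdeal
  rw [← he] at hfg ⊢
  exact Module.associatedPrimes.comap_mem_associatedPrimes_of_mem_associatedPrimes_of_isLocalizedModule_of_fg
    (hV.primeIdealOf ⟨x, hx⟩).asIdeal.primeCompl (Groth.L20.ModStalk.germₗ M hx) _ h hfg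

/-- Associated points of a quasi-coherent module are the associated primes of sections on affines. -/
theorem mem_iff_of_affine [IsLocallyNoetherian X] (M : X.Modules) [Coh.IsQCoh M] {V : X.Opens}
    (hV : IsAffineOpen V) {x : X} (hx : x ∈ V) :
    x ∈ AssSch.Ass M ↔ (hV.primeIdealOf ⟨x, hx⟩).asIdeal ∈ associatedPrimes Γ(X, V) Γ(M, V) := by
  have : IsNoetherianRing Γ(X, V) := IsLocallyNoetherian.component_noetherian ⟨V, hV⟩
  exact ⟨mem_associatedPrimes_of_fg M hV hx ((isNoetherianRing_iff_ideal_fg _).mp this _),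
    mem_of_mem_associatedPrimes M hV hx⟩

theorem primeIdealOf_fromSpec {V : X.Opens} (hV : IsAffineOpen V) (q : Spec Γ(X, V))
    (hq : hV.fromSpec q ∈ V) : hV.primeIdealOf ⟨hV.fromSpec q, hq⟩ = q :=
  hV.fromSpec.isOpenEmbedding.injective (hV.fromSpec_primeIdealOf _)

theorem fromSpec_mem {V : X.Opens} (hV : IsAffineOpen V) (q : Spec Γ(X, V)) : hV.fromSpec q ∈ V :=
  hV.range_fromSpec.le ⟨q, rfl⟩

/-- An associated prime of the sections defines an associated point. -/
theorem fromSpec_mem_ass (M : X.Modules) [Coh.IsQCoh M] {V : X.Opens} (hV : IsAffineOpen V)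
    {p : Ideal Γ(X, V)} [hp : p.IsPrime] (h : p ∈ associatedPrimes Γ(X, V) Γ(M, V)) :
    hV.fromSpec ⟨p, hp⟩ ∈ AssSch.Ass M := by
  refine mem_of_mem_associatedPrimes M hV (fromSpec_mem hV _) ?_
  rw [primeIdealOf_fromSpec hV]
  exact h

/-- A nonzero section on an affine open has an associated point where its germ is nonzero. -/
theorem exists_ass_germ_ne_zero [IsLocallyNoetherian X] (M : X.Modules) [Coh.IsQCoh M] {V : X.Opens}
    (hV : IsAffineOpen V) {s : Γ(M, V)} (hs : s ≠ 0) :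
    ∃ (x : X) (hx : x ∈ V), x ∈ AssSch.Ass M ∧ M.presheaf.germ V x hx s ≠ 0 := by
  have : IsNoetherianRing Γ(X, V) := IsLocallyNoetherian.component_noetherian ⟨V, hV⟩
  obtain ⟨p, hp, hle⟩ := exists_le_isAssociatedPrime_of_isNoetherianRing Γ(X, V) s hs
  haveI := hp.isPrime
  refine ⟨_, fromSpec_mem hV ⟨p, hp.isPrime⟩, fromSpec_mem_ass M hV hp, fun h0 => ?_⟩
  letI := Groth.L20.ModStalk.stalkModule M (fromSpec_mem hV ⟨p, hp.isPrime⟩)
  have := Groth.L20.ModStalk.isLocalizedModule_germ M hV (fromSpec_mem hV ⟨p, hp.isPrime⟩)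
  obtain ⟨t, ht⟩ := (IsLocalizedModule.eq_zero_iff
    (hV.primeIdealOf ⟨_, fromSpec_mem hV ⟨p, hp.isPrime⟩⟩).asIdeal.primeCompl
    (Groth.L20.ModStalk.germₗ M (fromSpec_mem hV ⟨p, hp.isPrime⟩))).mp h0
  have h2 : (t : Γ(X, V)) ∉ p := fun hm => t.2
    ((congrArg PrimeSpectrum.asIdeal (primeIdealOf_fromSpec hV ⟨p, hp.isPrime⟩
      (fromSpec_mem hV _))).ge hm)
  exact h2 (hle (Submodule.mem_colon_singleton.mpr (by rw [Submodule.mem_bot]; exact ht)))

/-- Associated points lie in an open iff sections vanishing on it vanish. -/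
theorem subset_iff [IsLocallyNoetherian X] (M : X.Modules) [Coh.IsQCoh M] (U : X.Opens) :
    AssSch.Ass M ⊆ (U : Set X) ↔
      ∀ (V : X.Opens), IsAffineOpen V → ∀ s : Γ(M, V),
        rs M (inf_le_left : V ⊓ U ≤ V) s = 0 → s = 0 := by
  constructor
  · intro h V hV s hs
    by_contra hne
    obtain ⟨x, hx, hxA, hxs⟩ := exists_ass_germ_ne_zero M hV hne
    refine hxs ?_
    rw [← Groth.L20.ModStalk.germ_rs M (inf_le_left : V ⊓ U ≤ V) (x := x) ⟨hx, h hxA⟩ s, hs, map_zero]
  · intro h x hxA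
    by_contra hxU
    obtain ⟨_, ⟨V, hV, rfl⟩, hxV, -⟩ :=
      X.isBasis_affineOpens.exists_subset_of_mem_open (Set.mem_univ x) isOpen_univ
    replace hV : IsAffineOpen V := hV
    have : IsNoetherianRing Γ(X, V) := IsLocallyNoetherian.component_noetherian ⟨V, hV⟩
    obtain ⟨-, s, hs⟩ := isAssociatedPrime_iff.mp ((mem_iff_of_affine M hV hxV).mp hxA)
    set p := hV.primeIdealOf ⟨x, hxV⟩
    have hne : s ≠ 0 := by
      rintro rfl
      refine p.2.ne_top (hs.trans ?_)
      refine (Ideal.eq_top_iff_one _).mpr (Submodule.mem_colon_singleton.mpr ?_)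
      rw [smul_zero]; exact zero_mem _
    refine hne (h V hV s ?_)
    refine TopCat.Presheaf.section_ext ((Groth.L21.Mod.toAbSh X).obj M) (V ⊓ U) _ _ fun y hy => ?_
    show M.presheaf.germ (V ⊓ U) y hy (rs M inf_le_left s) = M.presheaf.germ (V ⊓ U) y hy 0
    rw [Groth.L20.ModStalk.germ_rs, map_zero]
    set q := hV.primeIdealOf ⟨y, hy.1⟩
    have hpq : ¬ p.asIdeal ≤ q.asIdeal := by
      intro hle
      have hsp := ((PrimeSpectrum.le_iff_specializes p q).mp hle).map hV.fromSpec.continuous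
      erw [hV.fromSpec_primeIdealOf, hV.fromSpec_primeIdealOf] at hsp
      exact hxU (hsp.mem_open U.2 hy.2)
    obtain ⟨a, hap, haq⟩ := Set.not_subset.mp hpq
    letI := Groth.L20.ModStalk.stalkModule M hy.1
    have := Groth.L20.ModStalk.isLocalizedModule_germ M hV hy.1
    refine (IsLocalizedModule.eq_zero_iff q.asIdeal.primeCompl (Groth.L20.ModStalk.germₗ M hy.1)).mpr
      ⟨⟨a, haq⟩, ?_⟩
    rw [hs] at hap
    exact (Submodule.mem_bot _).mp (Submodule.mem_colon_singleton.mp hap)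

/-- Comparison of the action on sections of a direct image. -/
theorem push_smul (f : X ⟶ Y) (M : X.Modules) {V : Y.Opens} (a : Γ(Y, V))
    (s : Γ((Scheme.Modules.pushforward f).obj M, V)) :
    (show Γ(M, f ⁻¹ᵁ V) from a • s) = f.app V a • (show Γ(M, f ⁻¹ᵁ V) from s) := rfl

/-- An associated point in an affine preimage of an affine open maps to an associated point of the
direct image. -/
theorem image_mem_ass_push [IsLocallyNoetherian X] (f : X ⟶ Y) (M : X.Modules) [Coh.IsQCoh M]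
    [Coh.IsQCoh ((Scheme.Modules.pushforward f).obj M)]
    {V : Y.Opens} (hV : IsAffineOpen V) (hW : IsAffineOpen (f ⁻¹ᵁ V)) {x : X} (hx : f x ∈ V)
    (h : x ∈ AssSch.Ass M) : f x ∈ AssSch.Ass ((Scheme.Modules.pushforward f).obj M) := by
  have : IsNoetherianRing Γ(X, f ⁻¹ᵁ V) := IsLocallyNoetherian.component_noetherian ⟨_, hW⟩
  set q := hW.primeIdealOf ⟨x, hx⟩
  obtain ⟨-, s, hs⟩ := isAssociatedPrime_iff.mp ((mem_iff_of_affine M hW (x := x) hx).mp h)
  have hp : (q.asIdeal.comap (f.app V).hom).IsPrime := inferInstance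
  have hfx : f x = hV.fromSpec ⟨q.asIdeal.comap (f.app V).hom, hp⟩ := by
    have h1 := congr($(hV.SpecMap_appLE_fromSpec f hW le_rfl) q)
    rw [Scheme.Hom.comp_apply, Scheme.Hom.comp_apply] at h1
    erw [hW.fromSpec_primeIdealOf] at h1
    rw [← Scheme.Hom.app_eq_appLE] at h1
    exact h1.symm
  rw [hfx]
  refine fromSpec_mem_ass _ hV (p := q.asIdeal.comap (f.app V).hom) ⟨hp, s, ?_⟩
  rw [show Submodule.colon (⊥ : Submodule Γ(Y, V) Γ((Scheme.Modules.pushforward f).obj M, V)) {s} =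
      q.asIdeal.comap (f.app V).hom from ?_, hp.isRadical.radical]
  ext a
  rw [Submodule.mem_colon_singleton, Submodule.mem_bot, Ideal.mem_comap, hs,
    Submodule.mem_colon_singleton, Submodule.mem_bot]
  rfl

/-- Associated points of a direct image come from associated points. -/
theorem ass_push_subset [IsLocallyNoetherian X] [IsLocallyNoetherian Y] (f : X ⟶ Y) [QuasiCompact f]
    [QuasiSeparated f] (M : X.Modules) [Coh.IsQCoh M] :
    AssSch.Ass ((Scheme.Modules.pushforward f).obj M) ⊆ f '' AssSch.Ass M := by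
  haveI := Groth.L16.QcqsPush.isQCoh_push f (M := M)
  intro y hy
  obtain ⟨_, ⟨V, hV, rfl⟩, hyV, -⟩ :=
    Y.isBasis_affineOpens.exists_subset_of_mem_open (Set.mem_univ y) isOpen_univ
  replace hV : IsAffineOpen V := hV
  have : IsNoetherianRing Γ(Y, V) := IsLocallyNoetherian.component_noetherian ⟨V, hV⟩
  set p := hV.primeIdealOf ⟨y, hyV⟩ with hp_def
  obtain ⟨-, s, hs⟩ := isAssociatedPrime_iff.mp ((mem_iff_of_affine _ hV hyV).mp hy)
  let s' : Γ(M, f ⁻¹ᵁ V) := s
  obtain ⟨T, hT, hcov⟩ := isCompact_iff_finite_and_eq_biUnion_affineOpens.mp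
    (f.isCompact_preimage hV.isCompact)
  have hle : ∀ W ∈ T, (W.1 : X.Opens) ≤ f ⁻¹ᵁ V := fun W hW => by
    exact (le_iSup₂ (f := fun (W : X.affineOpens) (_ : W ∈ T) => (W : X.Opens)) W hW).trans hcov.ge
  let I : T → Ideal Γ(Y, V) := fun W =>
    (Submodule.colon (⊥ : Submodule Γ(X, W.1.1) Γ(M, W.1.1)) {rs M (hle W.1 W.2) s'}).comap
      (f.appLE V W.1.1 (hle W.1 W.2)).hom
  have hsmul : ∀ (W : T) (a : Γ(Y, V)),
      rs M (hle W.1 W.2) (f.app V a • s') =
        f.appLE V W.1.1 (hle W.1 W.2) a • rs M (hle W.1 W.2) s' := fun W a => by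
    rw [Groth.L18.Frame.rs_smul]; rfl
  have hmem : ∀ a, a ∈ p.asIdeal ↔ f.app V a • s' = 0 := fun a => by
    rw [hs, Submodule.mem_colon_singleton, Submodule.mem_bot]; rfl
  have hpI : ∀ W, p.asIdeal ≤ I W := fun W a ha => by
    refine Submodule.mem_colon_singleton.mpr ((Submodule.mem_bot _).mpr ?_)
    rw [← hsmul, (hmem a).mp ha]
    exact map_zero _
  have : Fintype T := hT.fintype
  have hinf : Finset.univ.inf I ≤ p.asIdeal := by
    intro a ha
    rw [Submodule.mem_finsetInf] at ha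
    refine (hmem a).mpr (TopCat.Presheaf.section_ext ((Groth.L21.Mod.toAbSh X).obj M) _ _ _ fun z hz => ?_)
    obtain ⟨W, hW'⟩ := Opens.mem_iSup.mp (hcov.le hz)
    obtain ⟨hW, hzW⟩ := Opens.mem_iSup.mp hW'
    show M.presheaf.germ _ z hz (f.app V a • s') = M.presheaf.germ _ z hz 0
    rw [← Groth.L20.ModStalk.germ_rs M (hle W hW) hzW, hsmul ⟨W, hW⟩,
      (Submodule.mem_bot _).mp (Submodule.mem_colon_singleton.mp (ha ⟨W, hW⟩ (Finset.mem_univ _))),
      map_zero, map_zero]
  obtain ⟨W, -, hW⟩ := (Ideal.IsPrime.inf_le' p.2).mp hinf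
  have heq : I W = p.asIdeal := le_antisymm hW (hpI W)
  set φ := f.appLE V W.1.1 (hle W.1 W.2)
  set m := rs M (hle W.1 W.2) s'
  set J := Submodule.colon (⊥ : Submodule Γ(X, W.1.1) Γ(M, W.1.1)) {m} with hJ
  have : IsNoetherianRing Γ(X, W.1.1) := IsLocallyNoetherian.component_noetherian W.1
  obtain ⟨q₁, hq₁, hJq₁, hq₁p⟩ := Ideal.exists_comap_eq_of_mem_minimalPrimes φ.hom p.asIdeal (I := J) (by
    rw [show J.comap φ.hom = p.asIdeal from heq, Ideal.minimalPrimes_eq_subsingleton_self]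
    rfl)
  obtain ⟨q, hq, hqq₁⟩ := Ideal.exists_minimalPrimes_le hJq₁
  have := hq.1.1
  have hqp : q.comap φ.hom = p.asIdeal := le_antisymm ((Ideal.comap_mono hqq₁).trans hq₁p.le)
    (heq.ge.trans (Ideal.comap_mono hq.1.2))
  have hqass : q ∈ associatedPrimes Γ(X, W.1.1) Γ(M, W.1.1) := by
    refine associatedPrimes.subset_of_injective (f := (Submodule.span Γ(X, W.1.1) {m}).subtype)
      Subtype.val_injective (Module.associatedPrimes.minimalPrimes_annihilator_subset_associatedPrimes _ _ ?_)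
    convert hq using 1
    congr 1
    ext b
    rw [Module.mem_annihilator, hJ, Submodule.mem_colon_singleton, Submodule.mem_bot]
    constructor
    · intro h
      exact congrArg Subtype.val (h ⟨m, Submodule.mem_span_singleton_self m⟩)
    · rintro h ⟨n, hn⟩
      obtain ⟨c, rfl⟩ := Submodule.mem_span_singleton.mp hn
      exact Subtype.ext (by show b • c • m = 0; rw [smul_comm, h, smul_zero])
  refine ⟨W.1.2.fromSpec ⟨q, hq.1.1⟩, fromSpec_mem_ass M W.1.2 hqass, ?_⟩
  have h1 := congr($(hV.SpecMap_appLE_fromSpec f W.1.2 (hle W.1 W.2)) ⟨q, hq.1.1⟩)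
  rw [Scheme.Hom.comp_apply, Scheme.Hom.comp_apply] at h1
  refine h1.symm.trans ?_
  rw [show Spec.map (f.appLE V W.1.1 (hle W.1 W.2)) ⟨q, hq.1.1⟩ = p from PrimeSpectrum.ext hqp, hp_def,
    hV.fromSpec_primeIdealOf]

/-- The map on stalks is linear. -/
def stalkMapₗ {M N : X.Modules} (φ : M ⟶ N) (x : X) :
    M.presheaf.stalk x →ₗ[X.presheaf.stalk x] N.presheaf.stalk x where
  toFun := (Groth.L21.Mod.stalkF X x).map φ
  map_add' := map_add _
  map_smul' r m := by
    obtain ⟨U₁, hx₁, r, rfl⟩ := TopCat.Presheaf.exists_germ_eq X.presheaf r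
    obtain ⟨U₂, hx₂, m, rfl⟩ := TopCat.Presheaf.exists_germ_eq M.presheaf m
    rw [← TopCat.Presheaf.germ_res_apply X.presheaf (homOfLE (inf_le_left : U₁ ⊓ U₂ ≤ U₁)) x ⟨hx₁, hx₂⟩,
      ← TopCat.Presheaf.germ_res_apply M.presheaf (homOfLE (inf_le_right : U₁ ⊓ U₂ ≤ U₂)) x ⟨hx₁, hx₂⟩,
      ← Groth.L20.ModStalk.germ_smul, RingHom.id_apply]
    erw [Groth.L21.Mod.stalkF_map_germ, Groth.L21.Mod.stalkF_map_germ, Scheme.Modules.Hom.app_smul,
      Groth.L20.ModStalk.germ_smul]

/-- Associated points in a short exact sequence. -/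
theorem ass_of_shortExact (S : ShortComplex X.Modules) (hS : S.ShortExact) :
    AssSch.Ass S.X₁ ⊆ AssSch.Ass S.X₂ ∧ AssSch.Ass S.X₂ ⊆ AssSch.Ass S.X₁ ∪ AssSch.Ass S.X₃ := by
  have h : ∀ x, Function.Injective (stalkMapₗ S.f x) ∧
      Function.Exact (stalkMapₗ S.f x) (stalkMapₗ S.g x) := fun x => by
    have he := hS.map_of_exact (Groth.L21.Mod.stalkF X x)
    exact ⟨(AddCommGrpCat.mono_iff_injective _).mp he.mono_f,
      (ShortComplex.ab_exact_iff_function_exact _).mp he.exact⟩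
  exact ⟨fun x hx => associatedPrimes.subset_of_injective (h x).1 hx,
    fun x hx => associatedPrimes.subset_union_of_exact (h x).1 (h x).2 hx⟩

end Groth.L19.Ass
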